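import Cfsg.Agent.H0.QCo3.D
set_option maxRecDepth 100000
set_option Elab.async false
set_option linter.unusedSectionVars false
namespace H0.QCo3
open H0 BN 
theorem defs_ok : DefsOK R.p defs 16 := defsOK_of_chk c28
universe u
variable {G : Type u} [Group G] [Finite G] (m0 : Model G) (h0 : m0.R = H6M.MCo3.R)
noncomputable def m : Model G := m0.ext (lg := nat_lit 9) (N := nat_lit 512) (l := H6M.MCo3.nl) h0 nl nl_ok 16 rfl defs defs_ok (by decide +kernel)
theorem mR : (m m0 h0).R = R := rfl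
variable (hb : m0.pst [108, 4, 3, 2, 1, 0] = ⊥) (hc : Nat.card G = 495766656000)
include h0 hb hc
theorem base : (m m0 h0).pst [108, 4, 3, 2, 1, 0] = ⊥ := hb
omit hb hc in
theorem ch2_ok : (m m0 h0).ChainOK ch2 [] := ((m m0 h0).chain_cons [0, 1, 2] (Model.via _ (mR m0 h0) (fun R => Model.fixP R [] [[16], [17], [24]]) c6) (Model.via _ (mR m0 h0) (fun R => Model.growP R [[16], [17], [24]] [0, 1, 2] 0 8) c7) ((m m0 h0).chain_cons [0, 1, 2, 3] (Model.via _ (mR m0 h0) (fun R => Model.fixP R [0] [[16, 19], [17, 19, 22], [23, 24], [25]]) c4) (Model.via _ (mR m0 h0) (fun R => Model.growP R [[16, 19], [17, 19, 22], [23, 24], [25]] [0, 1, 2, 3] 1 16) c5) ((m m0 h0).chain_cons [0, 1] (Model.via _ (mR m0 h0) (fun R => Model.fixP R [1, 0] [[16, 19, 21, 24], [20, 21, 25]]) c2) (Model.via _ (mR m0 h0) (fun R => Model.growP R [[16, 19, 21, 24], [20, 21, 25]] [0, 1] 2 4) c3) ((m m0 h0).chain_cons [0] (Model.via _ (mR m0 h0) (fun R => Model.fixP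 R [2, 1, 0] [[16, 17, 18, 22, 23]]) c0) (Model.via _ (mR m0 h0) (fun R => Model.growP R [[16, 17, 18, 22, 23]] [0] 3 2) c1) ((m m0 h0).chain_nil _)))))
theorem pb2 : PBound G (2 ^ (0 + 1)) :=
  (m m0 h0).pbound C2 16 (k := 484147125) (K := 2) (e := 1) hc (lt_step_all (a := 0) (k := 82) (lt_zero_all _) ((m m0 h0).rules_of (base m0 h0 hb hc) (Model.via _ (mR m0 h0) (fun R => rulesB R [108, 4, 3, 2, 1, 0] (fun i => sh 16 (C2.L i)) (fun i => sh 16 (C2.R i)) 0 82) c8))) (ch2_ok m0 h0) (by decide +kernel) tests2 (all_take_done (all_take_step (all_take_zero _ tests2) (allL_spec c9)) (by decide +kernel))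
    av2 FS2 YS2 rows2 (all_take_done (all_take_step (all_take_zero _ rows2) (allL_spec c10)) (by decide +kernel)) c11
omit hb hc in
theorem ch3_ok : (m m0 h0).ChainOK ch3 [] := ((m m0 h0).chain_cons [0, 1, 2, 3, 4, 5, 2, 1, 5, 4, 0] (Model.via _ (mR m0 h0) (fun R => Model.fixP R [] [[29], [30], [31], [32], [33], [34]]) c14) (Model.via _ (mR m0 h0) (fun R => Model.growP R [[29], [30], [31], [32], [33], [34]] [0, 1, 2, 3, 4, 5, 2, 1, 5, 4, 0] 0 243) c15) ((m m0 h0).chain_cons [0, 1, 0, 1] (Model.via _ (mR m0 h0) (fun R => Model.fixP R [0] [[29, 32, 32, 33, 33, 34], [30, 31, 31, 32, 33, 34, 34, 35, 35]]) c12) (Model.via _ (mR m0 h0) (fun R => Model.growP R [[29, 32, 32, 33, 33, 34], [30, 31, 31, 32, 33, 34, 34, 35, 35]] [0, 1, 0, 1] 1 9) c13) ((m m0 h0).chain_nil _)))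
theorem pb3 : PBound G (3 ^ (0 + 1)) :=
  (m m0 h0).pbound C3 29 (k := 226688000) (K := 2) (e := 1) hc (lt_step_all (a := 0) (k := 42) (lt_zero_all _) ((m m0 h0).rules_of (base m0 h0 hb hc) (Model.via _ (mR m0 h0) (fun R => rulesB R [108, 4, 3, 2, 1, 0] (fun i => sh 29 (C3.L i)) (fun i => sh 29 (C3.R i)) 0 42) c16))) (ch3_ok m0 h0) (by decide +kernel) tests3 (all_take_done (all_take_step (all_take_zero _ tests3) (allL_spec c17)) (by decide +kernel))
    av3 FS3 YS3 rows3 (all_take_done (all_take_step (all_take_zero _ rows3) (allL_spec c18)) (by decide +kernel)) c19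
omit hb hc in
theorem ch5_ok : (m m0 h0).ChainOK ch5 [] := ((m m0 h0).chain_cons [0, 1, 2, 0, 1, 0, 0] (Model.via _ (mR m0 h0) (fun R => Model.fixP R [] [[38], [39], [40]]) c22) (Model.via _ (mR m0 h0) (fun R => Model.growP R [[38], [39], [40]] [0, 1, 2, 0, 1, 0, 0] 1 25) c23) ((m m0 h0).chain_cons [0, 0, 0, 0] (Model.via _ (mR m0 h0) (fun R => Model.fixP R [1] [[38, 39, 40, 40]]) c20) (Model.via _ (mR m0 h0) (fun R => Model.growP R [[38, 39, 40, 40]] [0, 0, 0, 0] 2 5) c21) ((m m0 h0).chain_nil _)))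
theorem pb5 : PBound G (5 ^ (0 + 1)) :=
  (m m0 h0).pbound C5 38 (k := 3966133248) (K := 2) (e := 1) hc (lt_step_all (a := 0) (k := 9) (lt_zero_all _) ((m m0 h0).rules_of (base m0 h0 hb hc) (Model.via _ (mR m0 h0) (fun R => rulesB R [108, 4, 3, 2, 1, 0] (fun i => sh 38 (C5.L i)) (fun i => sh 38 (C5.R i)) 0 9) c24))) (ch5_ok m0 h0) (by decide +kernel) tests5 (all_take_done (all_take_step (all_take_zero _ tests5) (allL_spec c25)) (by decide +kernel))
    av5 FS5 YS5 rows5 (all_take_done (all_take_step (all_take_zero _ rows5) (allL_spec c26)) (by decide +kernel)) c27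
theorem bound (Γ : Type u) [Group Γ] [Finite Γ] (σ : Γ →* G) (hσ : Cfsg.IsStemExtension σ) : Nat.card σ.ker ∣ 1 :=
  card_ker_dvd (M := 23) (k := 10) (L := [2, 3, 5]) hc (by decide +kernel) (ex_bound (pb2 m0 h0 hb hc) (by decide) (ex_bound (pb3 m0 h0 hb hc) (by decide) (ex_bound (pb5 m0 h0 hb hc) (by decide) ex_bound_nil))) Γ σ hσ
end H0.QCo3
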